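import Groth.Agent.Lib.Helper5.ExtCech.Terms
import Groth.Prelude.Def_DRing3

set_option autoImplicit false
universe u
open CategoryTheory CategoryTheory.Limits CategoryTheory.Pretriangulated

namespace H5ExtCech

open DerCA

variable {R : Type u} [CommRing R]

lemma isZero_extCech_X (M : ModuleCat.{u} R) :
    ∀ (fs : List R) (n : ℤ), (n < 0 ∨ (fs.length : ℤ) < n) →
      IsZero ((DerCA.extCech M fs).X n) := by
  intro fs
  induction fs with
  | nil =>
    intro n hn
    have hne : n ≠ 0 := by
      rcases hn with h | h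
      · omega
      · simp at h; omega
    exact HomologicalComplex.isZero_single_obj_X (ComplexShape.up ℤ) 0 M n hne
  | cons f fs ih =>
    intro n hn
    have hlen : ((f :: fs).length : ℤ) = (fs.length : ℤ) + 1 := by simp
    rw [hlen] at hn
    refine IsZero.of_iso ?_ (DerCA.mappingCoconeXIso
      (DerCA.locCxUnit (Submonoid.powers f) (DerCA.extCech M fs)) n)
    rw [biprod_isZero_iff]
    constructor
    · exact ih n (by omega)
    · have h1 : IsZero ((DerCA.extCech M fs).X (n - 1)) := ih (n - 1) (by omega)
      exact (DerCA.locFunctor (Submonoid.powers f)).map_isZero h1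

lemma smulBij_loc_self (f : R) (A : ModuleCat.{u} R) :
    SmulBij f ((locFunctor (Submonoid.powers f)).obj A) := by
  constructor
  · intro a b hab
    have h0 : f • (a - b) = 0 := by rw [smul_sub]; exact sub_eq_zero.2 hab
    rw [← sub_eq_zero]
    revert h0
    generalize a - b = c
    intro h0
    induction (c : LocalizedModule (Submonoid.powers f) A) using LocalizedModule.induction_on with
    | h c s =>
      have h1 : (LocalizedModule.mk (f • c) s : LocalizedModule (Submonoid.powers f) A) = 0 := by
        rw [← smul_mk']; exact h0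
      rw [mk_eq_zero_iff'] at h1
      obtain ⟨u, hu⟩ := h1
      change (LocalizedModule.mk c s : LocalizedModule (Submonoid.powers f) A) = 0
      rw [mk_eq_zero_iff']
      refine ⟨u * ⟨f, 1, pow_one f⟩, ?_⟩
      rw [mul_smul]; exact hu
  · intro b
    induction (b : LocalizedModule (Submonoid.powers f) A) using LocalizedModule.induction_on with
    | h b s =>
      refine ⟨(LocalizedModule.mk b (⟨f, 1, pow_one f⟩ * s) : LocalizedModule (Submonoid.powers f) A), ?_⟩
      change f • (LocalizedModule.mk b (⟨f, 1, pow_one f⟩ * s) : LocalizedModule (Submonoid.powers f) A) =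
        LocalizedModule.mk b s
      rw [smul_mk', LocalizedModule.mk_eq]
      refine ⟨1, ?_⟩
      simp only [one_smul, Submonoid.smul_def, Submonoid.coe_mul]
      rw [mul_smul, smul_comm]

end H5ExtCech

namespace H5ExtCech

open DerCA

variable {R : Type u} [CommRing R]

lemma homologyπ_surjective (K : Cx R) (q : ℤ) : Function.Surjective (K.homologyπ q).hom :=
  (ModuleCat.epi_iff_surjective _).1 inferInstance

lemma iCycles_injective (K : Cx R) (q : ℤ) : Function.Injective (K.iCycles q).hom :=
  (ModuleCat.mono_iff_injective _).1 inferInstance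

lemma homologyMap_homologyπ {K L : Cx R} (φ : K ⟶ L) (q : ℤ) (c : K.cycles q) :
    (HomologicalComplex.homologyMap φ q).hom ((K.homologyπ q).hom c) =
      (L.homologyπ q).hom ((HomologicalComplex.cyclesMap φ q).hom c) := by
  have h : (K.homologyπ q ≫ HomologicalComplex.homologyMap φ q).hom c =
      (HomologicalComplex.cyclesMap φ q ≫ L.homologyπ q).hom c := by
    rw [HomologicalComplex.homologyπ_naturality]
  exact h

lemma iCycles_cyclesMap {K L : Cx R} (φ : K ⟶ L) (q : ℤ) (c : K.cycles q) :
    (L.iCycles q).hom ((HomologicalComplex.cyclesMap φ q).hom c) =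
      (φ.f q).hom ((K.iCycles q).hom c) := by
  have h : (HomologicalComplex.cyclesMap φ q ≫ L.iCycles q).hom c =
      (K.iCycles q ≫ φ.f q).hom c := by
    rw [HomologicalComplex.cyclesMap_i]
  exact h

/-- a cycle whose class vanishes, when the previous term is zero, is zero. -/
lemma cycle_eq_zero_of_homologyπ_eq_zero (K : Cx R) (q : ℤ) (hK : IsZero (K.X (q - 1)))
    (c : K.cycles q) (hc : (K.homologyπ q).hom c = 0) : c = 0 := by
  obtain ⟨w, hw⟩ := exists_toCycles_eq_of_homologyπ_eq_zero K q c hc
  have : Subsingleton (K.X (q - 1)) := ModuleCat.subsingleton_of_isZero hK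
  rw [← hw, Subsingleton.elim w 0, map_zero]

/-- **Part A**. -/
lemma homologyMap_locCxUnit_eq_zero_iff (f : R) (K : Cx R) (hK : IsZero (K.X (0 - 1)))
    (x : K.homology 0) :
    (HomologicalComplex.homologyMap (locCxUnit (Submonoid.powers f) K) 0).hom x = 0 ↔
      ∃ n : ℕ, f ^ n • x = 0 := by
  constructor
  · intro hx
    obtain ⟨c, rfl⟩ := homologyπ_surjective K 0 x
    rw [homologyMap_homologyπ] at hx
    have hL : IsZero (((locCx (Submonoid.powers f)).obj K).X (0 - 1)) :=
      (locFunctor (Submonoid.powers f)).map_isZero hK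
    have h1 := cycle_eq_zero_of_homologyπ_eq_zero _ 0 hL _ hx
    have h2 := congrArg (((locCx (Submonoid.powers f)).obj K).iCycles 0).hom h1
    rw [iCycles_cyclesMap, map_zero] at h2
    have h3 : (LocalizedModule.mk ((K.iCycles 0).hom c) 1 :
        LocalizedModule (Submonoid.powers f) (K.X 0)) = 0 := h2
    rw [mk_eq_zero_iff'] at h3
    obtain ⟨⟨_, n, rfl⟩, hu⟩ := h3
    refine ⟨n, ?_⟩
    rw [← map_smul]
    have h4 : f ^ n • c = 0 := by
      apply iCycles_injective K 0
      rw [map_smul, map_zero]
      exact hu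
    rw [h4, map_zero]
  · rintro ⟨n, hn⟩
    have hinj : ∀ y : ((locCx (Submonoid.powers f)).obj K).homology 0, f • y = 0 → y = 0 :=
      smul_injective_homology _ 0 f (smulBij_loc_self f _) (smulBij_loc_self f _)
    have h1 : f ^ n • (HomologicalComplex.homologyMap (locCxUnit (Submonoid.powers f) K) 0).hom x = 0 := by
      rw [← map_smul, hn, map_zero]
    revert h1
    generalize (HomologicalComplex.homologyMap (locCxUnit (Submonoid.powers f) K) 0).hom x = y
    intro h1
    clear hn
    induction n with
    | zero => simpa using h1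
    | succ n ih =>
      apply ih
      apply hinj
      rw [← mul_smul, ← pow_succ']
      exact h1

end H5ExtCech

namespace H5ExtCech

open DerCA

variable {R : Type u} [CommRing R]

lemma fst_f_injective {K L : Cx R} (φ : K ⟶ L) (hL : IsZero (L.X (-1))) :
    Function.Injective ((CochainComplex.mappingCocone.fst φ).f 0).hom := by
  have hid := CochainComplex.mappingCocone.id_X φ 0 (-1) (by simp)
  have hsnd : (CochainComplex.mappingCocone.snd φ).v 0 (-1) (by simp) = 0 := hL.eq_of_tgt _ _
  rw [hsnd, zero_comp, add_zero] at hid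
  intro a b hab
  have h1 := congrArg (fun ψ => ψ.hom a) hid
  have h2 := congrArg (fun ψ => ψ.hom b) hid
  have h1' : ((CochainComplex.mappingCocone.inl φ).v 0 0 (add_zero 0)).hom
      (((CochainComplex.mappingCocone.fst φ).f 0).hom a) = a := h1
  have h2' : ((CochainComplex.mappingCocone.inl φ).v 0 0 (add_zero 0)).hom
      (((CochainComplex.mappingCocone.fst φ).f 0).hom b) = b := h2
  rw [← h1', ← h2', hab]

/-- **Part B1**. -/
lemma homologyMap_fst_injective {K L : Cx R} (φ : K ⟶ L) (hK : IsZero (K.X (0 - 1)))
    (hL : IsZero (L.X (-1))) :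
    Function.Injective
      (HomologicalComplex.homologyMap (CochainComplex.mappingCocone.fst φ) 0).hom := by
  rw [injective_iff_map_eq_zero]
  intro x hx
  obtain ⟨c, rfl⟩ := homologyπ_surjective _ 0 x
  rw [homologyMap_homologyπ] at hx
  have h1 := cycle_eq_zero_of_homologyπ_eq_zero K 0 hK _ hx
  have h2 := congrArg (K.iCycles 0).hom h1
  rw [iCycles_cyclesMap, map_zero] at h2
  have h3 : ((CochainComplex.mappingCocone φ).iCycles 0).hom c = 0 := by
    apply fst_f_injective φ hL
    rw [h2, map_zero]
  have h4 : c = 0 := by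
    apply iCycles_injective _ 0
    rw [h3, map_zero]
  rw [h4, map_zero]

end H5ExtCech

namespace H5ExtCech

open DerCA

variable {R : Type u} [CommRing R]

lemma mappingCocone_triangleh_distinguished {K L : Cx R} (φ : K ⟶ L) :
    (HomotopyCategory.quotient (ModuleCat.{u} R) (ComplexShape.up ℤ)).mapTriangle.obj
      (CochainComplex.mappingCocone.triangle φ) ∈
        distTriang (HomotopyCategory (ModuleCat.{u} R) (ComplexShape.up ℤ)) := by
  rw [rotate_distinguished_triangle]
  refine isomorphic_distinguished _ (HomotopyCategory.mappingCone_triangleh_distinguished φ) _ ?_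
  exact ((HomotopyCategory.quotient (ModuleCat.{u} R) (ComplexShape.up ℤ)).mapTriangleRotateIso.app _ ≪≫
    (HomotopyCategory.quotient (ModuleCat.{u} R) (ComplexShape.up ℤ)).mapTriangle.mapIso
      (CochainComplex.mappingCocone.rotateTriangleIso φ))

/-- **Part B2**: exactness at `H^q(K)` of `H^q(cocone φ) → H^q(K) → H^q(L)`. -/
lemma exists_homologyMap_fst_eq {K L : Cx R} (φ : K ⟶ L) (q : ℤ) (y : K.homology q)
    (hy : (HomologicalComplex.homologyMap φ q).hom y = 0) :
    ∃ x, (HomologicalComplex.homologyMap (CochainComplex.mappingCocone.fst φ) q).hom x = y := by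
  have hT := mappingCocone_triangleh_distinguished φ
  have hex := (HomotopyCategory.homologyFunctor (ModuleCat.{u} R) (ComplexShape.up ℤ) q).map_distinguished_exact
    _ hT
  let e := HomotopyCategory.homologyFunctorFactors (ModuleCat.{u} R) (ComplexShape.up ℤ) q
  rw [ShortComplex.moduleCat_exact_iff] at hex
  -- transport `y`
  have hnat : ∀ {A B : Cx R} (ψ : A ⟶ B) (a : A.homology q),
      (e.hom.app B).hom (((HomotopyCategory.homologyFunctor (ModuleCat.{u} R) (ComplexShape.up ℤ) q).map
        ((HomotopyCategory.quotient (ModuleCat.{u} R) (ComplexShape.up ℤ)).map ψ)).hom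
          ((e.inv.app A).hom a)) = (HomologicalComplex.homologyMap ψ q).hom a := by
    intro A B ψ a
    have h1 := e.hom.naturality ψ
    have h2 : (e.inv.app A ≫ ((HomotopyCategory.quotient (ModuleCat.{u} R) (ComplexShape.up ℤ)) ⋙
        HomotopyCategory.homologyFunctor (ModuleCat.{u} R) (ComplexShape.up ℤ) q).map ψ ≫
          e.hom.app B).hom a = (HomologicalComplex.homologyMap ψ q).hom a := by
      rw [h1, Iso.inv_hom_id_app_assoc]; rfl
    exact h2
  have hy' : (e.hom.app L).hom
      (((HomotopyCategory.homologyFunctor (ModuleCat.{u} R) (ComplexShape.up ℤ) q).map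
        ((HomotopyCategory.quotient (ModuleCat.{u} R) (ComplexShape.up ℤ)).map φ)).hom
          ((e.inv.app K).hom y)) = 0 := by
    rw [hnat]; exact hy
  have hy'' : ((HomotopyCategory.homologyFunctor (ModuleCat.{u} R) (ComplexShape.up ℤ) q).map
        ((HomotopyCategory.quotient (ModuleCat.{u} R) (ComplexShape.up ℤ)).map φ)).hom
          ((e.inv.app K).hom y) = 0 := by
    have h7 := congrArg (e.inv.app L).hom hy'
    rw [map_zero] at h7
    rw [← h7]
    have : ∀ z, (e.inv.app L).hom ((e.hom.app L).hom z) = z := by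
      intro z
      have : (e.hom.app L ≫ e.inv.app L).hom z = z := by
        rw [Iso.hom_inv_id_app]; rfl
      exact this
    rw [this]
  obtain ⟨x₁, hx₁⟩ := hex ((e.inv.app K).hom y) hy''
  refine ⟨(e.hom.app (CochainComplex.mappingCocone φ)).hom x₁, ?_⟩
  rw [← hnat]
  have h5 : (e.inv.app (CochainComplex.mappingCocone φ)).hom
      ((e.hom.app (CochainComplex.mappingCocone φ)).hom x₁) = x₁ := by
    have : (e.hom.app (CochainComplex.mappingCocone φ) ≫
        e.inv.app (CochainComplex.mappingCocone φ)).hom x₁ = x₁ := by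
      rw [Iso.hom_inv_id_app]; rfl
    exact this
  rw [h5]
  have h6 : ((HomotopyCategory.homologyFunctor (ModuleCat.{u} R) (ComplexShape.up ℤ) q).map
      ((HomotopyCategory.quotient (ModuleCat.{u} R) (ComplexShape.up ℤ)).map
        (CochainComplex.mappingCocone.fst φ))).hom x₁ = (e.inv.app K).hom y := hx₁
  rw [h6]
  have : (e.inv.app K ≫ e.hom.app K).hom y = y := by
    rw [Iso.inv_hom_id_app]; rfl
  exact this

end H5ExtCech

namespace H5ExtCech

open DerCA

variable {R : Type u} [CommRing R]

/-- **Part B3**: the composite `H^q(cocone φ) → H^q(K) → H^q(L)` vanishes. -/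
lemma homologyMap_fst_comp {K L : Cx R} (φ : K ⟶ L) (q : ℤ)
    (x : (CochainComplex.mappingCocone φ).homology q) :
    (HomologicalComplex.homologyMap φ q).hom
      ((HomologicalComplex.homologyMap (CochainComplex.mappingCocone.fst φ) q).hom x) = 0 := by
  have hT := mappingCocone_triangleh_distinguished φ
  have hz := comp_distTriang_mor_zero₁₂ _ hT
  have hz' : (HomotopyCategory.quotient (ModuleCat.{u} R) (ComplexShape.up ℤ)).map
      (CochainComplex.mappingCocone.fst φ ≫ φ) = 0 := by
    rw [Functor.map_comp]; exact hz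
  let e := HomotopyCategory.homologyFunctorFactors (ModuleCat.{u} R) (ComplexShape.up ℤ) q
  have h1 := e.hom.naturality (CochainComplex.mappingCocone.fst φ ≫ φ)
  have h2 : HomologicalComplex.homologyMap (CochainComplex.mappingCocone.fst φ ≫ φ) q = 0 := by
    have h3 : (HomologicalComplex.homologyFunctor (ModuleCat.{u} R) (ComplexShape.up ℤ) q).map
        (CochainComplex.mappingCocone.fst φ ≫ φ) = e.inv.app _ ≫
          ((HomotopyCategory.quotient (ModuleCat.{u} R) (ComplexShape.up ℤ)) ⋙
            HomotopyCategory.homologyFunctor (ModuleCat.{u} R) (ComplexShape.up ℤ) q).map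
              (CochainComplex.mappingCocone.fst φ ≫ φ) ≫ e.hom.app _ := by
      rw [h1, Iso.inv_hom_id_app_assoc]
    have h4 : ((HomotopyCategory.quotient (ModuleCat.{u} R) (ComplexShape.up ℤ)) ⋙
        HomotopyCategory.homologyFunctor (ModuleCat.{u} R) (ComplexShape.up ℤ) q).map
          (CochainComplex.mappingCocone.fst φ ≫ φ) = 0 := by
      rw [Functor.comp_map, hz', Functor.map_zero]
    rw [h4, zero_comp, comp_zero] at h3
    exact h3
  rw [HomologicalComplex.homologyMap_comp] at h2
  have := congrArg (fun ψ => ψ.hom x) h2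
  exact this

end H5ExtCech

namespace H5ExtCech

open DerCA DRing

variable {R : Type u} [CommRing R]

lemma mem_torsionSub_sup_iff (f : R) (I' : Ideal R) (M : Type u) [AddCommGroup M] [Module R M]
    (m : M) : m ∈ torsionSub (Ideal.span {f} ⊔ I') M ↔
      m ∈ torsionSub I' M ∧ ∃ n : ℕ, f ^ n • m = 0 := by
  constructor
  · rintro ⟨n, hn⟩
    have hle1 : I' ^ n ≤ (Ideal.span {f} ⊔ I') ^ n := Ideal.pow_right_mono le_sup_right n
    have hle2 : Ideal.span {f} ^ n ≤ (Ideal.span {f} ⊔ I') ^ n := Ideal.pow_right_mono le_sup_left n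
    have hf : f ^ n ∈ Ideal.span {f} ^ n := Ideal.pow_mem_pow (Ideal.mem_span_singleton_self f) n
    exact ⟨⟨n, fun a ha => hn a (hle1 ha)⟩, n, hn _ (hle2 hf)⟩
  · rintro ⟨⟨k, hk⟩, n, hn⟩
    refine ⟨n + k, fun a ha => ?_⟩
    have h1 : a ∈ Ideal.span {f} ^ n ⊔ I' ^ k := Ideal.sup_pow_add_le_pow_sup_pow ha
    rw [Ideal.span_singleton_pow] at h1
    obtain ⟨b, hb, c, hc, rfl⟩ := Submodule.mem_sup.1 h1
    obtain ⟨r, rfl⟩ := Ideal.mem_span_singleton'.1 hb
    rw [add_smul, mul_smul, hn, smul_zero, hk c hc, add_zero]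

lemma span_cons (f : R) (fs : List R) :
    Ideal.span {a : R | a ∈ f :: fs} = Ideal.span {f} ⊔ Ideal.span {a : R | a ∈ fs} := by
  rw [← Ideal.span_union]
  congr 1
  ext a
  simp

/-- **S17776 core**. -/
theorem nonempty_H0_linearEquiv (M : ModuleCat.{u} R) : ∀ fs : List R,
    Nonempty ((extCech M fs).homology 0 ≃ₗ[R] torsionSub (Ideal.span {a : R | a ∈ fs}) M) := by
  intro fs
  induction fs with
  | nil =>
    have htop : torsionSub (Ideal.span {a : R | a ∈ ([] : List R)}) M = ⊤ := by
      rw [eq_top_iff]
      intro m _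
      refine ⟨1, fun a ha => ?_⟩
      have : a = 0 := by
        have h1 : ({a : R | a ∈ ([] : List R)} : Set R) = ∅ := by ext; simp
        rw [pow_one, h1, Ideal.span_empty] at ha
        exact ha
      rw [this, zero_smul]
    let e1 : (extCech M []).homology 0 ≃ₗ[R] M :=
      (HomologicalComplex.singleObjHomologySelfIso (ComplexShape.up ℤ) 0 M).toLinearEquiv
    exact ⟨e1 ≪≫ₗ (LinearEquiv.ofTop _ htop).symm⟩
  | cons f fs ih =>
    obtain ⟨e⟩ := ih
    let K := extCech M fs
    let lam := locCxUnit (Submonoid.powers f) K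
    have hK : IsZero (K.X (0 - 1)) := isZero_extCech_X M fs (0 - 1) (Or.inl (by norm_num))
    have hL : IsZero (((locCx (Submonoid.powers f)).obj K).X (-1)) :=
      (locFunctor (Submonoid.powers f)).map_isZero (by simpa using hK)
    let ψ : (CochainComplex.mappingCocone lam).homology 0 →ₗ[R] M :=
      (torsionSub (Ideal.span {a : R | a ∈ fs}) M).subtype ∘ₗ e.toLinearMap ∘ₗ
        (HomologicalComplex.homologyMap (CochainComplex.mappingCocone.fst lam) 0).hom
    have hψinj : Function.Injective ψ := by
      intro a b hab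
      apply homologyMap_fst_injective lam hK hL
      apply e.injective
      exact Subtype.ext hab
    have hrange : LinearMap.range ψ = torsionSub (Ideal.span {a : R | a ∈ f :: fs}) M := by
      ext m
      rw [span_cons, mem_torsionSub_sup_iff]
      constructor
      · rintro ⟨x, rfl⟩
        refine ⟨(e _).2, ?_⟩
        have h1 := homologyMap_fst_comp lam 0 x
        rw [homologyMap_locCxUnit_eq_zero_iff f K hK] at h1
        obtain ⟨n, hn⟩ := h1
        refine ⟨n, ?_⟩
        change f ^ n • ((e ((HomologicalComplex.homologyMap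
          (CochainComplex.mappingCocone.fst lam) 0).hom x) : torsionSub _ M) : M) = 0
        rw [← Submodule.coe_smul, ← map_smul, hn, map_zero]
        rfl
      · rintro ⟨hm, n, hn⟩
        have h1 : f ^ n • e.symm ⟨m, hm⟩ = 0 := by
          rw [← map_smul]
          have : f ^ n • (⟨m, hm⟩ : torsionSub (Ideal.span {a : R | a ∈ fs}) M) = 0 :=
            Subtype.ext hn
          rw [this, map_zero]
        have h2 := (homologyMap_locCxUnit_eq_zero_iff f K hK (e.symm ⟨m, hm⟩)).2 ⟨n, h1⟩
        obtain ⟨x, hx⟩ := exists_homologyMap_fst_eq lam 0 _ h2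
        refine ⟨x, ?_⟩
        change ((e ((HomologicalComplex.homologyMap
          (CochainComplex.mappingCocone.fst lam) 0).hom x) : torsionSub _ M) : M) = m
        rw [hx, LinearEquiv.apply_symm_apply]
    exact ⟨(LinearEquiv.ofInjective ψ hψinj) ≪≫ₗ (LinearEquiv.ofEq _ _ hrange)⟩

end H5ExtCech
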