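import Groth.Agent.Lib.Helper5.ExtCech.Loc

set_option autoImplicit false
universe u
open CategoryTheory CategoryTheory.Limits CategoryTheory.Pretriangulated

namespace H5ExtCech

open DerCA

variable {R : Type u} [CommRing R]

abbrev Cx (R : Type u) [CommRing R] := CochainComplex (ModuleCat.{u} R) ℤ

lemma contractible_of_iso {K L : Cx R} (e : K ≅ L) (h : Nonempty (Homotopy (𝟙 K) 0)) :
    Nonempty (Homotopy (𝟙 L) 0) := by
  have hK := (HomotopyCategory.isZero_quotient_obj_iff K).mpr h
  have hL : IsZero ((HomotopyCategory.quotient (ModuleCat.{u} R) (ComplexShape.up ℤ)).obj L) :=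
    hK.of_iso ((HomotopyCategory.quotient (ModuleCat.{u} R) (ComplexShape.up ℤ)).mapIso e.symm)
  exact (HomotopyCategory.isZero_quotient_obj_iff L).mp hL

/-- If `φ` becomes an isomorphism in the homotopy category, its mapping cocone is contractible. -/
lemma mappingCocone_contractible {K L : Cx R} (φ : K ⟶ L)
    (hφ : IsIso ((HomotopyCategory.quotient (ModuleCat.{u} R) (ComplexShape.up ℤ)).map φ)) :
    Nonempty (Homotopy (𝟙 (CochainComplex.mappingCocone φ)) 0) := by
  have hdist := HomotopyCategory.mappingCone_triangleh_distinguished φ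
  have hzero : IsZero ((HomotopyCategory.quotient (ModuleCat.{u} R) (ComplexShape.up ℤ)).obj
      (CochainComplex.mappingCone φ)) :=
    Triangle.isZero₃_of_isIso₁ _ hdist hφ
  obtain ⟨h⟩ := (HomotopyCategory.isZero_quotient_obj_iff _).mp hzero
  have h' := h.shift (-1)
  refine ⟨(Homotopy.ofEq ?_).trans (h'.trans (Homotopy.ofEq ?_))⟩
  · exact (CategoryTheory.Functor.map_id _ _).symm
  · exact Functor.map_zero _ _ _

lemma isIso_quotient_map_of_contractible {K L : Cx R} (φ : K ⟶ L)
    (hK : Nonempty (Homotopy (𝟙 K) 0)) (hL : Nonempty (Homotopy (𝟙 L) 0)) :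
    IsIso ((HomotopyCategory.quotient (ModuleCat.{u} R) (ComplexShape.up ℤ)).map φ) := by
  have hK' := (HomotopyCategory.isZero_quotient_obj_iff K).mpr hK
  have hL' := (HomotopyCategory.isZero_quotient_obj_iff L).mpr hL
  have : (HomotopyCategory.quotient (ModuleCat.{u} R) (ComplexShape.up ℤ)).map φ =
      (hK'.iso hL').hom := hK'.eq_of_src _ _
  rw [this]
  infer_instance

/-- An additive functor commutes with the mapping cocone. -/
noncomputable def mapMappingCoconeIso (H : ModuleCat.{u} R ⥤ ModuleCat.{u} R) [H.Additive]
    {K L : Cx R} (φ : K ⟶ L) :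
    (H.mapHomologicalComplex (ComplexShape.up ℤ)).obj (CochainComplex.mappingCocone φ) ≅
      CochainComplex.mappingCocone ((H.mapHomologicalComplex (ComplexShape.up ℤ)).map φ) :=
  ((H.mapHomologicalComplex (ComplexShape.up ℤ)).commShiftIso (-1 : ℤ)).app
      (CochainComplex.mappingCone φ) ≪≫
    (shiftFunctor (Cx R) (-1 : ℤ)).mapIso (CochainComplex.mappingCone.mapHomologicalComplexIso φ H)

lemma contractible_map_mappingCocone (H : ModuleCat.{u} R ⥤ ModuleCat.{u} R) [H.Additive]
    {K L : Cx R} (φ : K ⟶ L)
    (hφ : IsIso ((HomotopyCategory.quotient (ModuleCat.{u} R) (ComplexShape.up ℤ)).map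
      ((H.mapHomologicalComplex (ComplexShape.up ℤ)).map φ))) :
    Nonempty (Homotopy (𝟙 ((H.mapHomologicalComplex (ComplexShape.up ℤ)).obj
      (CochainComplex.mappingCocone φ))) 0) :=
  contractible_of_iso (mapMappingCoconeIso H φ).symm (mappingCocone_contractible _ hφ)

end H5ExtCech

namespace H5ExtCech

open DerCA

variable {R : Type u} [CommRing R]

/-- **Key contractibility**: for `g ∈ fs` and an additive endofunctor `H` inverting all
`g`-local isomorphisms, `H` applied termwise to the extended Čech complex is contractible. -/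
theorem contractible_map_extCech (g : R) (M : ModuleCat.{u} R) :
    ∀ (fs : List R), g ∈ fs → ∀ (H : ModuleCat.{u} R ⥤ ModuleCat.{u} R) [H.Additive], Inverts g H →
      Nonempty (Homotopy (𝟙 ((H.mapHomologicalComplex (ComplexShape.up ℤ)).obj (extCech M fs))) 0) := by
  intro fs
  induction fs with
  | nil => intro hg; simp at hg
  | cons f fs ih =>
    intro hg H _ hH
    show Nonempty (Homotopy (𝟙 ((H.mapHomologicalComplex (ComplexShape.up ℤ)).obj
      (CochainComplex.mappingCocone (locCxUnit (Submonoid.powers f) (extCech M fs))))) 0)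
    apply contractible_map_mappingCocone
    by_cases hfg : g = f
    · subst hfg
      have : ∀ n : ℤ, IsIso (((H.mapHomologicalComplex (ComplexShape.up ℤ)).map
          (locCxUnit (Submonoid.powers g) (extCech M fs))).f n) := by
        intro n
        exact hH _ (isLocIso_locUnit g ((extCech M fs).X n))
      have : IsIso ((H.mapHomologicalComplex (ComplexShape.up ℤ)).map
          (locCxUnit (Submonoid.powers g) (extCech M fs))) :=
        HomologicalComplex.Hom.isIso_of_components _
      infer_instance
    · have hg' : g ∈ fs := by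
        rcases List.mem_cons.mp hg with h | h
        · exact absurd h hfg
        · exact h
      have h1 := ih hg' H hH
      have h2 := ih hg' (locFunctor (Submonoid.powers f) ⋙ H) (inverts_comp f g H hH)
      apply isIso_quotient_map_of_contractible _ h1
      obtain ⟨h⟩ := h2
      exact ⟨h⟩

end H5ExtCech
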