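import Groth.Agent.Lib.Helper5.ExtCech.Hom

set_option autoImplicit false
universe u
open CategoryTheory CategoryTheory.Limits

namespace H5ExtCech

open DerCA

variable {R : Type u} [CommRing R]

/-- If `f`-power multiples of cycles are boundaries, homology classes are `f`-power torsion. -/
lemma exists_pow_smul_eq_zero_of_cycles (K : Cx R) (q : ℤ) (f : R)
    (h : ∀ z : K.X q, (K.d q (q + 1)).hom z = 0 →
      ∃ (n : ℕ) (w : K.X (q - 1)), f ^ n • z = (K.d (q - 1) q).hom w)
    (x : K.homology q) : ∃ n : ℕ, f ^ n • x = 0 := by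
  have hsurj : Function.Surjective (K.homologyπ q).hom :=
    (ModuleCat.epi_iff_surjective _).1 inferInstance
  obtain ⟨c, rfl⟩ := hsurj x
  have hz : (K.d q (q + 1)).hom ((K.iCycles q).hom c) = 0 := by
    have h2 : (K.iCycles q ≫ K.d q (q + 1)).hom c = 0 := by
      rw [K.iCycles_d]; rfl
    exact h2
  obtain ⟨n, w, hw⟩ := h _ hz
  refine ⟨n, ?_⟩
  have hinj : Function.Injective (K.iCycles q).hom :=
    (ModuleCat.mono_iff_injective _).1 inferInstance
  have h3 : f ^ n • c = (K.toCycles (q - 1) q).hom w := by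
    apply hinj
    rw [map_smul, hw]
    have h2 : (K.toCycles (q - 1) q ≫ K.iCycles q).hom w = (K.d (q - 1) q).hom w := by
      rw [K.toCycles_i]
    exact h2.symm
  rw [← map_smul, h3]
  have h2 : (K.toCycles (q - 1) q ≫ K.homologyπ q).hom w = 0 := by
    rw [K.toCycles_comp_homologyπ]; rfl
  exact h2

end H5ExtCech

namespace H5ExtCech

open DerCA

variable {R : Type u} [CommRing R]

/-- abstract version: a complex whose termwise localisation at `g` is contractible. -/
lemma exists_pow_smul_eq_d_of_contractible (g : R) (K : Cx R)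
    (h : Homotopy (𝟙 (((locFunctor (Submonoid.powers g)).mapHomologicalComplex
      (ComplexShape.up ℤ)).obj K)) 0) (q : ℤ)
    (z : K.X q) (hz : (K.d q (q + 1)).hom z = 0) :
    ∃ (n : ℕ) (w : K.X (q - 1)), g ^ n • z = (K.d (q - 1) q).hom w := by
  have hcomm := h.comm q
  rw [dNext_eq h.hom (show (ComplexShape.up ℤ).Rel q (q + 1) from rfl),
    prevD_eq h.hom (show (ComplexShape.up ℤ).Rel (q - 1) q from by simp)] at hcomm
  have hy : (LocalizedModule.mk z 1 : LocalizedModule (Submonoid.powers g) (K.X q)) =
      ((locFunctor (Submonoid.powers g)).map (K.d (q - 1) q)).hom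
        ((h.hom q (q - 1)).hom (LocalizedModule.mk z 1 : LocalizedModule (Submonoid.powers g) (K.X q))) := by
    have h1 := congrArg (fun φ => φ.hom
      (LocalizedModule.mk z 1 : LocalizedModule (Submonoid.powers g) (K.X q))) hcomm
    have h2 : ((locFunctor (Submonoid.powers g)).map (K.d q (q + 1))).hom
        (LocalizedModule.mk z 1 : LocalizedModule (Submonoid.powers g) (K.X q)) = 0 := by
      rw [locFunctor_map_mk, hz]; exact LocalizedModule.zero_mk 1
    simp only [Functor.mapHomologicalComplex_obj_d] at h1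
    change _ = (h.hom (q + 1) q).hom (((locFunctor (Submonoid.powers g)).map (K.d q (q + 1))).hom _) +
      _ + 0 at h1
    rw [h2] at h1
    have h3 : (h.hom (q + 1) q).hom (0 : ((locFunctor (Submonoid.powers g)).obj (K.X (q + 1)))) = 0 :=
      map_zero _
    refine h1.trans ?_
    refine (congrArg (· + _) (congrArg (· + _) h3)).trans ?_
    rw [zero_add, add_zero]
    rfl
  revert hy
  generalize (h.hom q (q - 1)).hom
    (LocalizedModule.mk z 1 : LocalizedModule (Submonoid.powers g) (K.X q)) = w'
  intro hy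
  induction (w' : LocalizedModule (Submonoid.powers g) (K.X (q - 1))) using
    LocalizedModule.induction_on with
  | h w s =>
    rw [locFunctor_map_mk, LocalizedModule.mk_eq] at hy
    obtain ⟨⟨_, a, rfl⟩, hu⟩ := hy
    obtain ⟨_, k, rfl⟩ := s
    refine ⟨a + k, g ^ a • w, ?_⟩
    simp only [Submonoid.smul_def, one_smul] at hu
    rw [map_smul, ← hu, pow_add, mul_smul]

/-- In the extended Čech complex, a power of `g ∈ fs` times a cycle is a boundary. -/
lemma exists_pow_smul_eq_d (g : R) (M : ModuleCat.{u} R) (fs : List R) (hg : g ∈ fs) (q : ℤ)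
    (z : (extCech M fs).X q) (hz : ((extCech M fs).d q (q + 1)).hom z = 0) :
    ∃ (n : ℕ) (w : (extCech M fs).X (q - 1)), g ^ n • z = ((extCech M fs).d (q - 1) q).hom w := by
  obtain ⟨h⟩ := contractible_map_extCech g M fs hg (locFunctor (Submonoid.powers g)) (inverts_loc g)
  exact exists_pow_smul_eq_d_of_contractible g _ h q z hz

/-- **S9265 core**: homology classes of the extended Čech complex are `g`-power torsion, `g ∈ fs`. -/
theorem exists_pow_smul_homology_eq_zero (g : R) (M : ModuleCat.{u} R) (fs : List R) (hg : g ∈ fs)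
    (q : ℤ) (x : (extCech M fs).homology q) : ∃ n : ℕ, g ^ n • x = 0 :=
  exists_pow_smul_eq_zero_of_cycles _ q g (fun z hz => exists_pow_smul_eq_d g M fs hg q z hz) x

end H5ExtCech
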