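import Groth.Agent.Lib.Helper5.ExtCech.Elem

set_option autoImplicit false
universe u
open CategoryTheory CategoryTheory.Limits

namespace H5ExtCech

open DerCA

variable {R : Type u} [CommRing R]

/-- A property of modules stable under isomorphisms, zero objects, binary biproducts and
localisation holds for all terms of the extended Čech complex as soon as it holds for `M`. -/
theorem extCech_X_prop (P : ModuleCat.{u} R → Prop)
    (hiso : ∀ {A B : ModuleCat.{u} R}, (A ≅ B) → P A → P B)
    (hzero : ∀ A : ModuleCat.{u} R, IsZero A → P A)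
    (hbiprod : ∀ A B : ModuleCat.{u} R, P A → P B → P (A ⊞ B))
    (hloc : ∀ (f : R) (A : ModuleCat.{u} R), P A → P ((locFunctor (Submonoid.powers f)).obj A))
    (M : ModuleCat.{u} R) (hM : P M) : ∀ (fs : List R) (n : ℤ), P ((extCech M fs).X n) := by
  intro fs
  induction fs with
  | nil =>
    intro n
    by_cases hn : n = 0
    · subst hn
      exact hiso (HomologicalComplex.singleObjXSelf (ComplexShape.up ℤ) 0 M).symm hM
    · exact hzero _ (HomologicalComplex.isZero_single_obj_X (ComplexShape.up ℤ) 0 M n hn)
  | cons f fs ih =>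
    intro n
    refine hiso (DerCA.mappingCoconeXIso
      (DerCA.locCxUnit (Submonoid.powers f) (DerCA.extCech M fs)) n).symm ?_
    exact hbiprod _ _ (ih n) (hloc f _ (ih (n - 1)))

/-- `f` acts bijectively. -/
def SmulBij (f : R) (A : ModuleCat.{u} R) : Prop := Function.Bijective (fun a : A => f • a)

lemma smulBij_of_iso (f : R) {A B : ModuleCat.{u} R} (e : A ≅ B) (h : SmulBij f A) : SmulBij f B := by
  constructor
  · intro b b' hbb
    have h1 : f • e.inv.hom b = f • e.inv.hom b' := by
      rw [← map_smul, ← map_smul]; exact congrArg _ hbb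
    have h2 := h.1 h1
    have := congrArg e.hom.hom h2
    simpa using this
  · intro b
    obtain ⟨a, ha⟩ := h.2 (e.inv.hom b)
    refine ⟨e.hom.hom a, ?_⟩
    change f • e.hom.hom a = b
    rw [← map_smul]
    have : f • a = e.inv.hom b := ha
    rw [this]
    simp

lemma smulBij_of_isZero (f : R) (A : ModuleCat.{u} R) (h : IsZero A) : SmulBij f A := by
  have : Subsingleton A := ModuleCat.subsingleton_of_isZero h
  exact ⟨fun a b _ => Subsingleton.elim a b, fun b => ⟨0, Subsingleton.elim _ _⟩⟩

lemma smulBij_prod (f : R) (A B : ModuleCat.{u} R) (hA : SmulBij f A) (hB : SmulBij f B) :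
    SmulBij f (ModuleCat.of R (A × B)) := by
  constructor
  · rintro ⟨a, b⟩ ⟨a', b'⟩ h
    have h1 : f • a = f • a' := congrArg Prod.fst h
    have h2 : f • b = f • b' := congrArg Prod.snd h
    exact Prod.ext (hA.1 h1) (hB.1 h2)
  · rintro ⟨a, b⟩
    obtain ⟨a', ha⟩ := hA.2 a
    obtain ⟨b', hb⟩ := hB.2 b
    exact ⟨(a', b'), Prod.ext ha hb⟩

lemma smulBij_biprod (f : R) (A B : ModuleCat.{u} R) (hA : SmulBij f A) (hB : SmulBij f B) :
    SmulBij f (A ⊞ B) :=
  smulBij_of_iso f (ModuleCat.biprodIsoProd A B).symm (smulBij_prod f A B hA hB)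

lemma smulBij_loc (f g : R) (A : ModuleCat.{u} R) (hA : SmulBij f A) :
    SmulBij f ((locFunctor (Submonoid.powers g)).obj A) := by
  constructor
  · intro a b hab
    have h0 : f • (a - b) = 0 := by rw [smul_sub]; exact sub_eq_zero.2 hab
    rw [← sub_eq_zero]
    revert h0
    generalize a - b = c
    intro h0
    induction (c : LocalizedModule (Submonoid.powers g) A) using LocalizedModule.induction_on with
    | h c s =>
      have h1 : (LocalizedModule.mk (f • c) s : LocalizedModule (Submonoid.powers g) A) = 0 := by
        rw [← smul_mk']; exact h0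
      rw [mk_eq_zero_iff'] at h1
      obtain ⟨u, hu⟩ := h1
      change (LocalizedModule.mk c s : LocalizedModule (Submonoid.powers g) A) = 0
      rw [mk_eq_zero_iff']
      refine ⟨u, ?_⟩
      apply hA.1
      change f • (u • c) = f • 0
      rw [smul_zero, smul_comm]; exact hu
  · intro b
    induction (b : LocalizedModule (Submonoid.powers g) A) using LocalizedModule.induction_on with
    | h b s =>
      obtain ⟨a, ha⟩ := hA.2 b
      refine ⟨(LocalizedModule.mk a s : LocalizedModule (Submonoid.powers g) A), ?_⟩
      change f • (LocalizedModule.mk a s : LocalizedModule (Submonoid.powers g) A) = _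
      rw [smul_mk']
      have : f • a = b := ha
      rw [this]

theorem smulBij_extCech_X (f : R) (M : ModuleCat.{u} R) (hM : SmulBij f M) (fs : List R) (n : ℤ) :
    SmulBij f ((extCech M fs).X n) :=
  extCech_X_prop (SmulBij f) (fun e h => smulBij_of_iso f e h) (smulBij_of_isZero f)
    (smulBij_biprod f) (fun g A h => smulBij_loc f g A h) M hM fs n

end H5ExtCech

namespace H5ExtCech

open DerCA

variable {R : Type u} [CommRing R]

lemma exists_toCycles_eq_of_homologyπ_eq_zero (K : Cx R) (q : ℤ) (y : K.cycles q)
    (hy : (K.homologyπ q).hom y = 0) : ∃ w : K.X (q - 1), (K.toCycles (q - 1) q).hom w = y := by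
  have hex : (ShortComplex.mk _ _ (K.toCycles_comp_homologyπ (q - 1) q)).Exact :=
    ShortComplex.exact_of_g_is_cokernel _ (K.homologyIsCokernel (q - 1) q (by simp))
  rw [ShortComplex.moduleCat_exact_iff] at hex
  exact hex y hy

/-- If `f` acts bijectively on the terms of `K`, it acts injectively on homology. -/
lemma smul_injective_homology (K : Cx R) (q : ℤ) (f : R) (h1 : SmulBij f (K.X (q - 1)))
    (h2 : SmulBij f (K.X q)) (x : K.homology q) (hx : f • x = 0) : x = 0 := by
  have hsurj : Function.Surjective (K.homologyπ q).hom :=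
    (ModuleCat.epi_iff_surjective _).1 inferInstance
  obtain ⟨c, rfl⟩ := hsurj x
  rw [← map_smul] at hx
  obtain ⟨w, hw⟩ := exists_toCycles_eq_of_homologyπ_eq_zero K q _ hx
  obtain ⟨w', hw'⟩ := h1.2 w
  have hw'' : f • w' = w := hw'
  have hinj : Function.Injective (K.iCycles q).hom :=
    (ModuleCat.mono_iff_injective _).1 inferInstance
  have hti : ∀ v, (K.iCycles q).hom ((K.toCycles (q - 1) q).hom v) = (K.d (q - 1) q).hom v := by
    intro v
    have h2 : (K.toCycles (q - 1) q ≫ K.iCycles q).hom v = (K.d (q - 1) q).hom v := by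
      rw [K.toCycles_i]
    exact h2
  have h3 : c = (K.toCycles (q - 1) q).hom w' := by
    apply hinj
    apply h2.1
    change f • (K.iCycles q).hom c = f • (K.iCycles q).hom ((K.toCycles (q - 1) q).hom w')
    rw [← map_smul, ← hw, hti, hti, ← hw'', map_smul]
  rw [h3]
  have h4 : (K.toCycles (q - 1) q ≫ K.homologyπ q).hom w' = 0 := by
    rw [K.toCycles_comp_homologyπ]; rfl
  exact h4

/-- **S9266 core**. -/
theorem isZero_extCechH_of_mem_span (fs : List R) (M : ModuleCat.{u} R) (f : R)
    (hf : f ∈ Ideal.span {a : R | a ∈ fs}) (hbij : SmulBij f M) (q : ℤ) :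
    IsZero (extCechH fs M q) := by
  have hsub : Subsingleton (extCechH fs M q) := by
    refine ⟨fun x y => ?_⟩
    suffices h : ∀ x : extCechH fs M q, x = 0 by rw [h x, h y]
    intro x
    -- `f` lies in the radical of the annihilator of `x`
    have hrad : f ∈ ((Submodule.span R {x}).annihilator).radical := by
      have hle : Ideal.span {a : R | a ∈ fs} ≤ ((Submodule.span R {x}).annihilator).radical := by
        rw [Ideal.span_le]
        intro g hg
        obtain ⟨n, hn⟩ := exists_pow_smul_homology_eq_zero g M fs hg q x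
        exact ⟨n, (Submodule.mem_annihilator_span_singleton _ _).2 hn⟩
      exact hle hf
    obtain ⟨N, hN⟩ := hrad
    rw [Submodule.mem_annihilator_span_singleton] at hN
    have hinj : ∀ y : extCechH fs M q, f • y = 0 → y = 0 :=
      smul_injective_homology (extCech M fs) q f (smulBij_extCech_X f M hbij fs (q - 1))
        (smulBij_extCech_X f M hbij fs q)
    clear hf
    induction N with
    | zero => simpa using hN
    | succ N ih =>
      apply ih
      apply hinj
      rw [← mul_smul, ← pow_succ']
      exact hN
  exact ModuleCat.isZero_of_subsingleton _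

end H5ExtCech
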