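import Groth.Prelude.Def_DerCA
import Mathlib

/-!
# Extended Čech complex: localisation lemmas (helper5)
-/

set_option autoImplicit false
universe u
open CategoryTheory CategoryTheory.Limits

namespace H5ExtCech

open DerCA

variable {R : Type u} [CommRing R]

section PureModule

variable {M : Type u} [AddCommGroup M] [Module R M] (S : Submonoid R)

lemma mk_eq_zero_iff' (m : M) (s : S) :
    (LocalizedModule.mk m s : LocalizedModule S M) = 0 ↔ ∃ u : S, u • m = 0 := by
  rw [← LocalizedModule.zero_mk s, LocalizedModule.mk_eq]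
  constructor
  · rintro ⟨u, hu⟩
    refine ⟨u * s, ?_⟩
    rw [smul_zero, smul_zero] at hu
    rw [mul_smul]; exact hu
  · rintro ⟨u, hu⟩
    refine ⟨u, ?_⟩
    rw [smul_zero, smul_zero, smul_comm, hu, smul_zero]

lemma smul_mk' (r : R) (m : M) (s : S) :
    r • (LocalizedModule.mk m s : LocalizedModule S M) = LocalizedModule.mk (r • m) s :=
  LocalizedModule.smul'_mk r m s

end PureModule

/-- value of `locFunctor.map` on a fraction. -/
lemma locFunctor_map_mk (S : Submonoid R) {M N : ModuleCat.{u} R} (g : M ⟶ N) (m : M) (s : S) :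
    ((locFunctor S).map g).hom (LocalizedModule.mk m s : LocalizedModule S M) =
      (LocalizedModule.mk (g.hom m) s : LocalizedModule S N) := by
  change (IsLocalizedModule.map S (LocalizedModule.mkLinearMap S M) (LocalizedModule.mkLinearMap S N)
    g.hom) (LocalizedModule.mk m s) = _
  rw [IsLocalizedModule.mk_eq_mk', IsLocalizedModule.map_mk', ← IsLocalizedModule.mk_eq_mk']

lemma locUnit_app_apply (S : Submonoid R) (M : ModuleCat.{u} R) (m : M) :
    ((locUnit S).app M).hom m = (LocalizedModule.mk m 1 : LocalizedModule S M) := rfl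

/-- A map of modules whose kernel and cokernel are `g`-power torsion. -/
def IsLocIso (g : R) {A B : ModuleCat.{u} R} (ψ : A ⟶ B) : Prop :=
  (∀ a : A, ψ.hom a = 0 → ∃ n : ℕ, g ^ n • a = 0) ∧ (∀ b : B, ∃ (n : ℕ) (a : A), g ^ n • b = ψ.hom a)

lemma isLocIso_locUnit (g : R) (N : ModuleCat.{u} R) :
    IsLocIso g ((locUnit (Submonoid.powers g)).app N) := by
  constructor
  · intro a ha
    have ha' : (LocalizedModule.mk a 1 : LocalizedModule (Submonoid.powers g) N) = 0 := ha
    rw [mk_eq_zero_iff'] at ha'
    obtain ⟨⟨_, n, rfl⟩, hu⟩ := ha'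
    exact ⟨n, hu⟩
  · intro b
    induction (b : LocalizedModule (Submonoid.powers g) N) using LocalizedModule.induction_on with
    | h a s =>
      obtain ⟨_, n, rfl⟩ := s
      refine ⟨n, a, ?_⟩
      change (g ^ n) • (LocalizedModule.mk a ⟨g ^ n, _⟩ : LocalizedModule (Submonoid.powers g) N) =
        LocalizedModule.mk a 1
      rw [smul_mk', LocalizedModule.mk_eq]
      refine ⟨1, ?_⟩
      simp [Submonoid.smul_def]

lemma isLocIso_map_loc (f g : R) {A B : ModuleCat.{u} R} (ψ : A ⟶ B) (h : IsLocIso g ψ) :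
    IsLocIso g ((locFunctor (Submonoid.powers f)).map ψ) := by
  constructor
  · intro a ha
    induction (a : LocalizedModule (Submonoid.powers f) A) using LocalizedModule.induction_on with
    | h a s =>
      have ha' : (LocalizedModule.mk (ψ.hom a) s : LocalizedModule (Submonoid.powers f) B) = 0 := by
        rw [← locFunctor_map_mk]; exact ha
      rw [mk_eq_zero_iff'] at ha'
      obtain ⟨u, hu⟩ := ha'
      have h1 : ψ.hom ((u : R) • a) = 0 := by
        rw [map_smul]; exact hu
      obtain ⟨n, hn⟩ := h.1 _ h1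
      refine ⟨n, ?_⟩
      change (g ^ n) • (LocalizedModule.mk a s : LocalizedModule (Submonoid.powers f) A) = 0
      rw [smul_mk', mk_eq_zero_iff']
      refine ⟨u, ?_⟩
      rw [smul_comm]; exact hn
  · intro b
    induction (b : LocalizedModule (Submonoid.powers f) B) using LocalizedModule.induction_on with
    | h b s =>
      obtain ⟨n, a, hna⟩ := h.2 b
      refine ⟨n, (LocalizedModule.mk a s : LocalizedModule (Submonoid.powers f) A), ?_⟩
      rw [locFunctor_map_mk, ← hna]
      exact smul_mk' _ _ _ _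

end H5ExtCech

namespace H5ExtCech

open DerCA

variable {R : Type u} [CommRing R]

lemma isIso_of_bijective {A B : ModuleCat.{u} R} (ψ : A ⟶ B) (h : Function.Bijective ψ.hom) :
    IsIso ψ := by
  have : ψ = (LinearEquiv.toModuleIso (LinearEquiv.ofBijective ψ.hom h)).hom := by
    ext x; rfl
  rw [this]
  exact Iso.isIso_hom _

lemma isIso_loc_map (g : R) {A B : ModuleCat.{u} R} (ψ : A ⟶ B) (h : IsLocIso g ψ) :
    IsIso ((locFunctor (Submonoid.powers g)).map ψ) := by
  apply isIso_of_bijective
  constructor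
  · rw [injective_iff_map_eq_zero]
    intro a ha
    induction (a : LocalizedModule (Submonoid.powers g) A) using LocalizedModule.induction_on with
    | h a s =>
      have ha' : (LocalizedModule.mk (ψ.hom a) s : LocalizedModule (Submonoid.powers g) B) = 0 := by
        rw [← locFunctor_map_mk]; exact ha
      rw [mk_eq_zero_iff'] at ha'
      obtain ⟨⟨_, k, rfl⟩, hu⟩ := ha'
      have h1 : ψ.hom (g ^ k • a) = 0 := by
        rw [map_smul]; exact hu
      obtain ⟨n, hn⟩ := h.1 _ h1
      change (LocalizedModule.mk a s : LocalizedModule (Submonoid.powers g) A) = 0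
      rw [mk_eq_zero_iff']
      refine ⟨⟨g ^ (n + k), n + k, rfl⟩, ?_⟩
      change g ^ (n + k) • a = 0
      rw [pow_add, mul_smul]; exact hn
  · intro b
    induction (b : LocalizedModule (Submonoid.powers g) B) using LocalizedModule.induction_on with
    | h b s =>
      obtain ⟨n, a, hna⟩ := h.2 b
      refine ⟨(LocalizedModule.mk a (⟨g ^ n, n, rfl⟩ * s) : LocalizedModule (Submonoid.powers g) A), ?_⟩
      rw [locFunctor_map_mk, ← hna]
      change (LocalizedModule.mk (g ^ n • b) (⟨g ^ n, n, rfl⟩ * s) :
        LocalizedModule (Submonoid.powers g) B) = LocalizedModule.mk b s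
      rw [LocalizedModule.mk_eq]
      refine ⟨1, ?_⟩
      simp only [one_smul, Submonoid.smul_def, Submonoid.coe_mul]
      rw [mul_smul, smul_comm]

/-- An endofunctor inverts all `g`-local isomorphisms. -/
def Inverts (g : R) (H : ModuleCat.{u} R ⥤ ModuleCat.{u} R) : Prop :=
  ∀ ⦃A B : ModuleCat.{u} R⦄ (ψ : A ⟶ B), IsLocIso g ψ → IsIso (H.map ψ)

lemma inverts_loc (g : R) : Inverts g (locFunctor (Submonoid.powers g)) :=
  fun _ _ ψ h => isIso_loc_map g ψ h

lemma inverts_comp (f g : R) (H : ModuleCat.{u} R ⥤ ModuleCat.{u} R) (h : Inverts g H) :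
    Inverts g (locFunctor (Submonoid.powers f) ⋙ H) :=
  fun _ _ ψ hψ => h _ (isLocIso_map_loc f g ψ hψ)

end H5ExtCech
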